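import Groth.Agent.Lib.Hurwitz17.DualDeg
import Groth.Agent.Lib.VB17.Bound
import Groth.Agent.Lib.VB17.Saturate
import Groth.Agent.Lib.VB17.Proper
import Mathlib.LinearAlgebra.Contraction

/-!
# Non-zero homomorphisms from the degree of `Q^∨ ⊗ F`
-/

set_option linter.style.haveILetI false
set_option autoImplicit false
set_option maxHeartbeats 800000
set_option backward.isDefEq.respectTransparency.types false

universe u

open CategoryTheory TopologicalSpace Opposite CategoryTheory.Limits AlgebraicGeometry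
open scoped TensorProduct

namespace Groth.Agent.SlopeDual17

open Groth.Agent.M1 Groth.Agent.M2 Groth.Agent.CurveCoh17

variable {X : Scheme.{u}} [IsLocallyNoetherian X]

/-- A form and a section give a local homomorphism. -/
noncomputable def outerSec (Q F : X.Modules) {U : X.Opens} (θ : Γ(RefHull.dual Q, U)) (s : Γ(F, U)) :
    Γ(RefHull.homSh Q F, U) :=
  ⟨fun y => (((RH26.str y.1).symm.toLinearMap).comp (θ.1 y)).smulRight (F.presheaf.germ U y.1 y.2 s),
    fun V i m y => by
      obtain ⟨W, hW, j, n, hn⟩ := RefHull.isLocSect_of_mem θ V i m y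
      refine ⟨W, hW, j, (show Γ(X, W) from n) • M2.res F ((leOfHom j).trans (leOfHom i)) s, fun z => ?_⟩
      rw [LinearMap.smulRight_apply, LinearMap.comp_apply, LinearEquiv.coe_coe, hn z, M1.germ_smul,
        germ_mres F ((leOfHom j).trans (leOfHom i)) z.2 s]
      congr 1
      rw [LinearEquiv.symm_apply_eq, RH26.str_apply]
      show _ = X.presheaf.germ W z.1 z.2 n • (Coh.structureModule X).presheaf.germ ⊤ z.1 trivial (one ⊤)
      rw [← germ_mres (Coh.structureModule X) (le_top : W ≤ ⊤) z.2 (one ⊤), ← M1.germ_smul]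
      congr 1
      show _ = (show Γ(X, W) from n) * X.presheaf.map (homOfLE le_top).op (1 : Γ(X, ⊤))
      rw [map_one]
      exact (mul_one (M := Γ(X, W)) _).symm⟩

theorem outerSec_apply (Q F : X.Modules) {U : X.Opens} (θ : Γ(RefHull.dual Q, U)) (s : Γ(F, U)) (y : U)
    (v : Q.presheaf.stalk y.1) :
    (outerSec Q F θ s).1 y v = (RH26.str y.1).symm (θ.1 y v) • F.presheaf.germ U y.1 y.2 s := rfl

/-- The contraction pairing. -/
noncomputable def outerBi (Q F : X.Modules) : BiMap (RefHull.dual Q) F (RefHull.homSh Q F) where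
  f U θ s := outerSec Q F θ s
  add_left U θ θ' s := Subtype.ext (funext fun y => LinearMap.ext fun v => by
    show (RH26.str y.1).symm (θ.1 y v + θ'.1 y v) • F.presheaf.germ U y.1 y.2 s = _
    rw [map_add, add_smul]
    rfl)
  smul_left U r θ s := Subtype.ext (funext fun y => LinearMap.ext fun v => by
    show (RH26.str y.1).symm (X.presheaf.germ U y.1 y.2 r • θ.1 y v) • F.presheaf.germ U y.1 y.2 s =
      X.presheaf.germ U y.1 y.2 r • ((RH26.str y.1).symm (θ.1 y v) • F.presheaf.germ U y.1 y.2 s)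
    rw [map_smul, smul_eq_mul, mul_smul])
  add_right U θ s s' := Subtype.ext (funext fun y => LinearMap.ext fun v => by
    show (RH26.str y.1).symm (θ.1 y v) • F.presheaf.germ U y.1 y.2 (s + s') = _
    rw [map_add, smul_add]
    rfl)
  smul_right U r θ s := Subtype.ext (funext fun y => LinearMap.ext fun v => by
    show (RH26.str y.1).symm (θ.1 y v) • F.presheaf.germ U y.1 y.2 (r • s) =
      X.presheaf.germ U y.1 y.2 r • ((RH26.str y.1).symm (θ.1 y v) • F.presheaf.germ U y.1 y.2 s)
    rw [M1.germ_smul, smul_comm])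
  compat {U V} h θ s := Subtype.ext (funext fun y => LinearMap.ext fun v => by
    show (RH26.str y.1).symm (θ.1 ⟨y.1, h y.2⟩ v) • F.presheaf.germ V y.1 y.2 (M2.res F h s) = _
    rw [germ_mres F h y.2 s]
    rfl)

/-- On stalks the contraction is `dualTensorHom`. -/
theorem evalStalk_outer {Q : X.Modules} (hQ : Coh.IsCoh Q) (F : X.Modules) (x : X)
    (t : (RefHull.dual Q).presheaf.stalk x ⊗[X.presheaf.stalk x] F.presheaf.stalk x) :
    RefHull.evalStalk Q F x (stalkLin (mkHom (outerBi Q F)) x ((stalkEquiv (RefHull.dual Q) F x).symm t)) =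
      dualTensorHom (X.presheaf.stalk x) (Q.presheaf.stalk x) (F.presheaf.stalk x)
        ((RH26.dualEquiv hQ x).toLinearMap.rTensor _ t) := by
  induction t using TensorProduct.induction_on with
  | zero => simp
  | tmul a b =>
    obtain ⟨U, hx, θ, s, rfl, rfl⟩ := exists_germ_germ x a b
    rw [(LinearEquiv.symm_apply_eq _).2 (stalkEquiv_tsec (RefHull.dual Q) F x hx θ s).symm, stalkLin_apply,
      germ_naturality, mkHom_tsec]
    refine LinearMap.ext fun v => ?_
    rw [LinearMap.rTensor_tmul, dualTensorHom_apply, LinearEquiv.coe_coe, RH26.dualEquiv_apply]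
    refine (LinearMap.congr_fun (RefHull.evalStalk_germ Q F x hx _) v).trans ?_
    refine congrArg (fun c => (RH26.str x).symm c • F.presheaf.germ U x hx s) ?_
    exact (LinearMap.congr_fun (RefHull.evalStalk_germ Q (Coh.structureModule X) x hx θ) v).symm
  | add a b ha hb => simp only [map_add, ha, hb]

variable {k : Type u} [Field k] [X.Over (Spec (CommRingCat.of k))]

/-- If `χ(Q^∨ ⊗ F) > 0` there is a non-zero map `Q → F`. -/
theorem exists_hom_ne_zero [IsIntegral X] (hX : VB17.RegCurve k X) (hdim : topologicalKrullDim X = 1) {s n : ℕ}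
    {Q F : X.Modules} (hQ : FlatMod.IsFinLocFreeOfRank s Q) (hF : FlatMod.IsFinLocFreeOfRank n F)
    (hpos : 0 < (s : ℤ) * Curv2.deg k X F n - n * Curv2.deg k X Q s +
      s * n * Curv2.euler k X (Coh.structureModule X)) :
    ∃ φ : Q ⟶ F, φ ≠ 0 := by
  haveI := hX.like.noetherian
  let hc := isCoh_of_ofRank hQ
  have hD := Hurwitz17.isFinLocFreeOfRank_dual hQ
  have hT := isFinLocFreeOfRank_tensor hD hF
  have hdegD := Hurwitz17.deg_dual hX hdim s hQ
  have heul : 0 < Curv2.euler k X (CohB1.tensorMod (RefHull.dual Q) F) := by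
    rw [hX.like.euler_tensor hD hF]
    rw [Curv2.deg] at hdegD
    simp only [Curv2.deg] at hdegD hpos
    nlinarith [congrArg (fun z : ℤ => (n : ℤ) * z) hdegD]
  rw [(hX.like.adm (isCoh_of_ofRank hT)).euler_eq] at heul
  haveI : Nontrivial (Coh.HH X (CohB1.tensorMod (RefHull.dual Q) F) 0) :=
    Module.nontrivial_of_finrank_pos (R := k) (by omega)
  obtain ⟨z, hz⟩ := exists_ne (0 : Coh.HH X (CohB1.tensorMod (RefHull.dual Q) F) 0)
  obtain ⟨φ, hφ⟩ := LefFEt11.exists_hom_of_globalHom ((mkHom (outerBi Q F)).app ⊤ (hh0 _ z))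
  refine ⟨φ, fun h0 => hh0_ne_zero hz (eq_zero_of_germ_eq_zero hT _ (x := genericPoint X) ?_)⟩
  set η := genericPoint X
  obtain ⟨eQ⟩ := nonempty_stalk_equiv hQ η
  haveI := Module.Free.of_equiv eQ.symm
  haveI := Module.Finite.equiv eQ.symm
  have hval : RefHull.evalStalk Q F η (stalkLin (mkHom (outerBi Q F)) η
      ((CohB1.tensorMod (RefHull.dual Q) F).presheaf.germ ⊤ η trivial (hh0 _ z))) = 0 := by
    rw [stalkLin_apply, germ_naturality]
    refine LinearMap.ext fun v => ?_
    refine (LinearMap.congr_fun (RefHull.evalStalk_germ Q F (U := (⊤ : X.Opens)) η trivial _) v).trans ?_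
    rw [← hφ η, h0]
    obtain ⟨V, hV, m, rfl⟩ := Q.presheaf.exists_germ_eq v
    exact (RefHull.stalkMapₗ_germ _ η hV m).trans (map_zero _)
  rw [← (stalkEquiv (RefHull.dual Q) F η).symm_apply_apply
    ((CohB1.tensorMod (RefHull.dual Q) F).presheaf.germ ⊤ η trivial (hh0 _ z)), evalStalk_outer hc] at hval
  have hinj : Function.Injective (dualTensorHom (X.presheaf.stalk η) (Q.presheaf.stalk η) (F.presheaf.stalk η)) :=
    (dualTensorHomEquivOfBasis (N := F.presheaf.stalk η) (Module.Free.chooseBasis _ (Q.presheaf.stalk η))).injective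
  have h1 := hinj (hval.trans (map_zero _).symm)
  have h2 : stalkEquiv (RefHull.dual Q) F η ((CohB1.tensorMod (RefHull.dual Q) F).presheaf.germ ⊤ η trivial (hh0 _ z)) = 0 :=
    (LinearEquiv.rTensor (F.presheaf.stalk η) (RH26.dualEquiv hc η)).injective (h1.trans (map_zero _).symm)
  exact (stalkEquiv (RefHull.dual Q) F η).injective (h2.trans (map_zero _).symm)

/-- A bundle of degree zero with no maps to a slope `g - 1` bundle is semistable. -/
theorem deg_sub_nonpos [IsIntegral X] (hX : VB17.RegCurve k X) (hdim : topologicalKrullDim X = 1) {r n : ℕ} (hn : 0 < n)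
    {E F : X.Modules} (hE : FlatMod.IsFinLocFreeOfRank r E) (hdeg : Curv2.deg k X E r = 0)
    (hF : FlatMod.IsFinLocFreeOfRank n F)
    (hFdeg : Curv2.deg k X F n = -(n : ℤ) * Curv2.euler k X (Coh.structureModule X)) (hhom : ∀ φ : E ⟶ F, φ = 0)
    {G : X.Modules} {r' : ℕ} (i : G ⟶ E) [Mono i] (hG : FlatMod.IsFinLocFreeOfRank r' G) :
    Curv2.deg k X G r' ≤ 0 := by
  haveI := hX.like.noetherian
  obtain ⟨N, hN⟩ := VB17.deg_sub_bdd hX hE
  obtain ⟨d, ⟨P, j, hj, hP, hPd⟩, hmax⟩ := Int.exists_greatest_of_bdd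
    (P := fun d => ∃ (P : X.Modules) (j : P ⟶ E), Mono j ∧ FlatMod.IsFinLocFreeOfRank r' P ∧ Curv2.deg k X P r' = d)
    ⟨N, fun d ⟨P, j, hj, hP, hd⟩ => hd ▸ hN P r' j hj hP⟩ ⟨_, G, i, inferInstance, hG, rfl⟩
  haveI := hj
  refine (hmax _ ⟨G, i, inferInstance, hG, rfl⟩).trans ?_
  by_contra hd
  obtain ⟨s, hQ⟩ := VB17.exists_rank_of_isFinLocFree (VB17.isFinLocFree_cokernel hX hE hP j
    fun P' j' hj' hP' => hPd ▸ hmax _ ⟨P', j', hj', hP', rfl⟩)
  have hS : (ShortComplex.mk j (cokernel.π j) (cokernel.condition j)).ShortExact :=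
    { exact := ShortComplex.exact_of_g_is_cokernel _ (cokernelIsCokernel _) }
  have hadd := VB17.deg_add hX.like hS hP hE hQ
  rw [hdeg, hPd] at hadd
  obtain ⟨φ, hφ⟩ := exists_hom_ne_zero hX hdim hQ hF (by
    rw [hFdeg]
    have hn' : (0 : ℤ) < n := by exact_mod_cast hn
    nlinarith)
  exact hφ (by rw [← cancel_epi (cokernel.π j), comp_zero]; exact hhom _)

end Groth.Agent.SlopeDual17
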